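import Cfsg.Agent.H55.Fi22E6.Rows
import Cfsg.Agent.H55.Fi22E6.Data

/-!
Evaluations for the nine involutions in the twisted group of type E₆.
-/

set_option autoImplicit false
set_option Elab.async false
set_option maxRecDepth 100000

namespace Cfsg.Agent.H55.Fi22E6

open Cfsg.Agent.H16 Cfsg.Lie

theorem roots_lt : rootPairs.all (fun p => p.1 < 72) = true := by decide +kernel

/-- The comparison of one row of a root element with its data. -/
noncomputable def entOk (n : ℕ) (k : Fin 78) : Bool :=
  (List.finRange 78).all fun l =>
    Nat.beq (F4.toNat (chevE6.x F4 (rootPairs.getD n (0, 0)).1 (rootPairs.getD n (0, 0)).2 (idx.symm k) (idx.symm l)))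
      (getP (rootData.getD n 0) k l)

/-- The comparison of one root element with its data. -/
noncomputable def rootOk (n : ℕ) : Bool := (List.finRange 78).all (entOk n)

theorem root_ok0_0 : (((List.finRange 78).drop 0).take 39).all (entOk 0) = true := by
  decide +kernel

theorem root_ok0_1 : (((List.finRange 78).drop 39).take 39).all (entOk 0) = true := by
  decide +kernel

theorem root_ok1_0 : (((List.finRange 78).drop 0).take 39).all (entOk 1) = true := by
  decide +kernel

theorem root_ok1_1 : (((List.finRange 78).drop 39).take 39).all (entOk 1) = true := by
  decide +kernel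

theorem root_ok2_0 : (((List.finRange 78).drop 0).take 39).all (entOk 2) = true := by
  decide +kernel

theorem root_ok2_1 : (((List.finRange 78).drop 39).take 39).all (entOk 2) = true := by
  decide +kernel

theorem root_ok3_0 : (((List.finRange 78).drop 0).take 39).all (entOk 3) = true := by
  decide +kernel

theorem root_ok3_1 : (((List.finRange 78).drop 39).take 39).all (entOk 3) = true := by
  decide +kernel

theorem root_ok4_0 : (((List.finRange 78).drop 0).take 39).all (entOk 4) = true := by
  decide +kernel

theorem root_ok4_1 : (((List.finRange 78).drop 39).take 39).all (entOk 4) = true := by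
  decide +kernel

theorem root_ok5_0 : (((List.finRange 78).drop 0).take 39).all (entOk 5) = true := by
  decide +kernel

theorem root_ok5_1 : (((List.finRange 78).drop 39).take 39).all (entOk 5) = true := by
  decide +kernel

theorem root_ok6_0 : (((List.finRange 78).drop 0).take 39).all (entOk 6) = true := by
  decide +kernel

theorem root_ok6_1 : (((List.finRange 78).drop 39).take 39).all (entOk 6) = true := by
  decide +kernel

theorem root_ok7_0 : (((List.finRange 78).drop 0).take 39).all (entOk 7) = true := by
  decide +kernel

theorem root_ok7_1 : (((List.finRange 78).drop 39).take 39).all (entOk 7) = true := by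
  decide +kernel

theorem root_ok8_0 : (((List.finRange 78).drop 0).take 39).all (entOk 8) = true := by
  decide +kernel

theorem root_ok8_1 : (((List.finRange 78).drop 39).take 39).all (entOk 8) = true := by
  decide +kernel

theorem root_ok9_0 : (((List.finRange 78).drop 0).take 39).all (entOk 9) = true := by
  decide +kernel

theorem root_ok9_1 : (((List.finRange 78).drop 39).take 39).all (entOk 9) = true := by
  decide +kernel

theorem root_ok10_0 : (((List.finRange 78).drop 0).take 39).all (entOk 10) = true := by
  decide +kernel

theorem root_ok10_1 : (((List.finRange 78).drop 39).take 39).all (entOk 10) = true := by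
  decide +kernel

theorem root_ok11_0 : (((List.finRange 78).drop 0).take 39).all (entOk 11) = true := by
  decide +kernel

theorem root_ok11_1 : (((List.finRange 78).drop 39).take 39).all (entOk 11) = true := by
  decide +kernel

theorem root_ok12_0 : (((List.finRange 78).drop 0).take 39).all (entOk 12) = true := by
  decide +kernel

theorem root_ok12_1 : (((List.finRange 78).drop 39).take 39).all (entOk 12) = true := by
  decide +kernel

theorem root_ok13_0 : (((List.finRange 78).drop 0).take 39).all (entOk 13) = true := by
  decide +kernel

theorem root_ok13_1 : (((List.finRange 78).drop 39).take 39).all (entOk 13) = true := by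
  decide +kernel

theorem root_ok14_0 : (((List.finRange 78).drop 0).take 39).all (entOk 14) = true := by
  decide +kernel

theorem root_ok14_1 : (((List.finRange 78).drop 39).take 39).all (entOk 14) = true := by
  decide +kernel

theorem root_ok15_0 : (((List.finRange 78).drop 0).take 39).all (entOk 15) = true := by
  decide +kernel

theorem root_ok15_1 : (((List.finRange 78).drop 39).take 39).all (entOk 15) = true := by
  decide +kernel

theorem root_ok16_0 : (((List.finRange 78).drop 0).take 39).all (entOk 16) = true := by
  decide +kernel

theorem root_ok16_1 : (((List.finRange 78).drop 39).take 39).all (entOk 16) = true := by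
  decide +kernel

theorem root_ok17_0 : (((List.finRange 78).drop 0).take 39).all (entOk 17) = true := by
  decide +kernel

theorem root_ok17_1 : (((List.finRange 78).drop 39).take 39).all (entOk 17) = true := by
  decide +kernel

theorem root_ok18_0 : (((List.finRange 78).drop 0).take 39).all (entOk 18) = true := by
  decide +kernel

theorem root_ok18_1 : (((List.finRange 78).drop 39).take 39).all (entOk 18) = true := by
  decide +kernel

theorem root_ok19_0 : (((List.finRange 78).drop 0).take 39).all (entOk 19) = true := by
  decide +kernel

theorem root_ok19_1 : (((List.finRange 78).drop 39).take 39).all (entOk 19) = true := by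
  decide +kernel

theorem root_ok20_0 : (((List.finRange 78).drop 0).take 39).all (entOk 20) = true := by
  decide +kernel

theorem root_ok20_1 : (((List.finRange 78).drop 39).take 39).all (entOk 20) = true := by
  decide +kernel

theorem root_ok21_0 : (((List.finRange 78).drop 0).take 39).all (entOk 21) = true := by
  decide +kernel

theorem root_ok21_1 : (((List.finRange 78).drop 39).take 39).all (entOk 21) = true := by
  decide +kernel

theorem root_ok {n : ℕ} (hn : n < 22) : rootOk n = true := by
  have key : ∀ m, (((List.finRange 78).drop 0).take 39).all (entOk m) = true →
      (((List.finRange 78).drop 39).take 39).all (entOk m) = true → rootOk m = true := by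
    intro m h1 h2
    rw [rootOk, show List.finRange 78 = ((List.finRange 78).drop 0).take 39 ++ ((List.finRange 78).drop 39).take 39 by
      decide +kernel, List.all_append, h1, h2]
    rfl
  interval_cases n
  · exact key _ root_ok0_0 root_ok0_1
  · exact key _ root_ok1_0 root_ok1_1
  · exact key _ root_ok2_0 root_ok2_1
  · exact key _ root_ok3_0 root_ok3_1
  · exact key _ root_ok4_0 root_ok4_1
  · exact key _ root_ok5_0 root_ok5_1
  · exact key _ root_ok6_0 root_ok6_1
  · exact key _ root_ok7_0 root_ok7_1
  · exact key _ root_ok8_0 root_ok8_1
  · exact key _ root_ok9_0 root_ok9_1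
  · exact key _ root_ok10_0 root_ok10_1
  · exact key _ root_ok11_0 root_ok11_1
  · exact key _ root_ok12_0 root_ok12_1
  · exact key _ root_ok13_0 root_ok13_1
  · exact key _ root_ok14_0 root_ok14_1
  · exact key _ root_ok15_0 root_ok15_1
  · exact key _ root_ok16_0 root_ok16_1
  · exact key _ root_ok17_0 root_ok17_1
  · exact key _ root_ok18_0 root_ok18_1
  · exact key _ root_ok19_0 root_ok19_1
  · exact key _ root_ok20_0 root_ok20_1
  · exact key _ root_ok21_0 root_ok21_1

/-- The condition on a number to be a packed matrix over the field with four elements. -/
noncomputable def rowsLinear (N : ℕ) : Bool := (List.range 78).all fun k => (List.range 78).all fun l =>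
  Nat.beq (getQ N k l) ([0, 2, 3, 1].getD (getP N k l) 0)

theorem linear_root : rootData.all rowsLinear = true := by decide +kernel

theorem linear_ok : rowsLinear certB = true ∧ rowsLinear certP = true ∧ rowsLinear certQ = true := by
  decide +kernel

/-- Rows of a product. -/
noncomputable def prodF (T : List ℕ) : List ℕ → ℕ :=
  List.rec oneN fun g _ ih => mulN (T.getD g 0) ih

/-- Rows of a generator of the twisted group. -/
noncomputable def baseRows : List ℕ := baseWords.map (prodF rootData)

theorem gen_ok : (List.range 9).all (fun i => prodF baseRows (genWords.getD i []) == genData.getD i 0) = true := by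
  decide +kernel

theorem rel_sq : (List.range 9).all (fun i => prodF genData [i, i] == oneN) = true := by decide +kernel

/-- The edges of the diagram. -/
def edgeList : List (ℕ × ℕ) := [(0, 1), (1, 2), (2, 3), (3, 4), (4, 5), (5, 6), (3, 7), (7, 8)]

theorem rel_comm : (List.range 9).all (fun i => (List.range 9).all fun j =>
    decide (j ≤ i) || edgeList.contains (i, j) ||
      (prodF genData [i, j] == prodF genData [j, i])) = true := by decide +kernel

theorem rel_braid : edgeList.all (fun e =>
    prodF genData [e.1, e.2, e.1] == prodF genData [e.2, e.1, e.2]) = true := by decide +kernel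

theorem rel_extra : powN (prodF genData [3, 2, 1, 3, 4, 5, 3, 7, 8]) 10 = oneN ∧
    powN (prodF genData [0, 1, 2, 3, 4, 5, 7]) 9 = oneN ∧
    powN (prodF genData [1, 2, 3, 4, 5, 6, 7]) 9 = oneN := by decide +kernel

/-- Rows of the element of the group algebra. -/
noncomputable def algRows : ℕ := (algWords.map (prodF genData)).foldr Nat.xor 0

/-- Rows of the certified projection. -/
noncomputable def projRows : ℕ := mulN certB algRows ^^^ oneN

theorem proj_ok : projRows &&& pack 156 (fun _ => 3 * 2 ^ (2 * pivot)) = projRows ∧
    mulN algRows projRows = 0 ∧ pivot < 78 := by decide +kernel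

theorem tree_root : (List.range 78).all (fun i =>
    Nat.beq (getP certP i 0) (getP projRows i pivot)) = true := by decide +kernel

/-- The step from a spanning vector to the next. -/
noncomputable def treeOk (k : ℕ) : Bool :=
  (List.range 78).all fun i =>
    Nat.beq (getP certP i (k + 1))
      (getP (mulN (genData.getD (tree.getD k (0, 0)).2 0) certP) i (tree.getD k (0, 0)).1)

theorem tree_ok : (List.range 77).all (fun k => decide ((tree.getD k (0, 0)).1 ≤ k) &&
    decide (1 ≤ (tree.getD k (0, 0)).2) && decide ((tree.getD k (0, 0)).2 ≤ 8) && treeOk k) = true := by
  decide +kernel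

theorem alg_letters : algWords.all (fun w => w.all fun i => decide (1 ≤ i) && decide (i ≤ 8)) = true := by
  decide +kernel

theorem span_ok : mulN certP certQ = oneN := by decide +kernel

end Cfsg.Agent.H55.Fi22E6
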