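import Cfsg.Agent.H55.Fi22E6.Check
import Cfsg.Agent.H67.ThreeF4

/-!
The nine involutions as invertible matrices, their relations, and their centraliser.
-/

set_option autoImplicit false
set_option maxRecDepth 100000

namespace Cfsg.Agent.H55.Fi22E6

open Cfsg.Lie Cfsg.Agent.H16 Cfsg.Agent.H46
open scoped Matrix

/-- The matrices of the root elements used. -/
noncomputable def rootGL (n : ℕ) : GL chevE6.Idx F4 :=
  goodE6.xg (rootPairs.getD n (0, 0)).1 (rootPairs.getD n (0, 0)).2

/-- The generators of the twisted group used. -/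
noncomputable def baseGL (n : ℕ) : GL chevE6.Idx F4 := ((baseWords.getD n []).map rootGL).prod

/-- The nine involutions. -/
noncomputable def genF (i : ℕ) : GL chevE6.Idx F4 := ((genWords.getD i []).map baseGL).prod

/-- The rows of an invertible matrix. -/
def IsG (g : GL chevE6.Idx F4) (R : ℕ) : Prop := Is (g : Matrix chevE6.Idx chevE6.Idx F4) R

theorem IsG.ext {g h : GL chevE6.Idx F4} {R : ℕ} (h1 : IsG g R) (h2 : IsG h R) : g = h :=
  Units.ext (Is.ext h1 h2)

theorem IsG.one : IsG 1 (oneN) := by rw [IsG, Units.val_one]; exact Is.one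

theorem IsG.mul {g h : GL chevE6.Idx F4} {R S : ℕ} (h1 : IsG g R) (h2 : IsG h S) :
    IsG (g * h) (mulN R S) := by rw [IsG, Units.val_mul]; exact Is.mul h1 h2

theorem IsG.prod {M : ℕ → GL chevE6.Idx F4} {T : List ℕ} : ∀ w : List ℕ,
    (∀ k ∈ w, IsG (M k) (T.getD k 0)) → IsG ((w.map M).prod) (prodF T w)
  | [], _ => IsG.one
  | k :: w, h => by
    rw [List.map_cons, List.prod_cons]
    exact (h k List.mem_cons_self).mul (IsG.prod w fun l hl => h l (List.mem_cons_of_mem _ hl))

theorem IsG.pow {g : GL chevE6.Idx F4} {R : ℕ} (h : IsG g R) (k : ℕ) : IsG (g ^ k) (powN R k) := by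
  rw [IsG, Units.val_pow_eq_pow_val]; exact Is.pow h k

theorem code_toNat : ∀ x : F4, F4.fromNat (F4.toNat x) = x := by decide

theorem rootGL_rows {n : ℕ} (hn : n < 22) : IsG (rootGL n) (rootData.getD n 0) := by
  have hlen : rootData.length = 22 := by decide +kernel
  have hlt : n < rootData.length := by omega
  have hL := List.all_eq_true.1 linear_root _ (List.getElem_mem hlt)
  simp only [rowsLinear, List.all_eq_true, List.mem_range] at hL
  refine Is.of_codes (fun k l => ?_) fun k l => ?_
  · rw [List.getD_eq_getElem _ _ hlt]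
    exact Nat.eq_of_beq_eq_true (hL k k.isLt l l.isLt)
  · have h := root_ok hn
    simp only [rootOk, entOk, List.all_eq_true] at h
    rw [← Nat.eq_of_beq_eq_true (h k (List.mem_finRange k) l (List.mem_finRange l)), code_toNat]
    rfl

theorem word_bounds : baseWords.all (fun w => w.all fun k => decide (k < 22)) = true ∧
    genWords.all (fun w => w.all fun k => decide (k < 13)) = true ∧ baseWords.length = 13 ∧
    genWords.length = 9 := by decide +kernel

theorem baseGL_rows {n : ℕ} (hn : n < 13) : IsG (baseGL n) (baseRows.getD n 0) := by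
  have hlt : n < baseWords.length := by rw [word_bounds.2.2.1]; exact hn
  rw [baseRows, List.getD_eq_getElem _ _ (by rw [List.length_map]; exact hlt), List.getElem_map,
    baseGL, List.getD_eq_getElem _ _ hlt]
  refine IsG.prod _ fun k hk => rootGL_rows ?_
  have h := List.all_eq_true.1 (List.all_eq_true.1 word_bounds.1 _ (List.getElem_mem hlt)) k hk
  exact of_decide_eq_true h

theorem genF_rows {i : ℕ} (hi : i < 9) : IsG (genF i) (genData.getD i 0) := by
  rw [← beq_iff_eq.1 (List.all_eq_true.1 gen_ok i (List.mem_range.2 hi))]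
  refine IsG.prod _ fun k hk => baseGL_rows ?_
  have hlt : i < genWords.length := by rw [word_bounds.2.2.2]; exact hi
  rw [List.getD_eq_getElem _ _ hlt] at hk
  exact of_decide_eq_true (List.all_eq_true.1 (List.all_eq_true.1 word_bounds.2.1 _ (List.getElem_mem hlt)) k hk)

theorem genF_word {w : List ℕ} (hw : ∀ k ∈ w, k < 9) : IsG ((w.map genF).prod) (prodF genData w) :=
  IsG.prod w fun k hk => genF_rows (hw k hk)

theorem genF_eq {u v : List ℕ} (hu : ∀ k ∈ u, k < 9) (hv : ∀ k ∈ v, k < 9)
    (h : prodF genData u = prodF genData v) : (u.map genF).prod = (v.map genF).prod :=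
  (genF_word hu).ext (h ▸ genF_word hv)

theorem genF_sq {i : ℕ} (hi : i < 9) : genF i * genF i = 1 := by
  have h := genF_eq (u := [i, i]) (v := []) (by simp [hi]) (by simp)
    (beq_iff_eq.1 (List.all_eq_true.1 rel_sq i (List.mem_range.2 hi)))
  simpa using h

theorem genF_comm {i j : ℕ} (hi : i < 9) (hj : j < 9) (hlt : i < j) (he : edgeList.contains (i, j) = false) :
    genF i * genF j = genF j * genF i := by
  have h := List.all_eq_true.1 (List.all_eq_true.1 rel_comm i (List.mem_range.2 hi)) j (List.mem_range.2 hj)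
  rw [he, Bool.or_false, decide_eq_false (by omega), Bool.false_or] at h
  simpa using genF_eq (u := [i, j]) (v := [j, i]) (by simp [hi, hj]) (by simp [hi, hj]) (beq_iff_eq.1 h)

theorem genF_braid {i j : ℕ} (hi : i < 9) (hj : j < 9) (he : (i, j) ∈ edgeList) :
    genF i * (genF j * genF i) = genF j * (genF i * genF j) := by
  have h := beq_iff_eq.1 (List.all_eq_true.1 rel_braid (i, j) he)
  simpa using genF_eq (u := [i, j, i]) (v := [j, i, j]) (by simp [hi, hj]) (by simp [hi, hj]) h

/-- The Coxeter label of two of the involutions. -/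
def labelN (i j : ℕ) : ℕ :=
  if i = j then 1 else if edgeList.contains (i, j) || edgeList.contains (j, i) then 3 else 2

theorem genF_cox {i j : ℕ} (hi : i < 9) (hj : j < 9) : (genF i * genF j) ^ labelN i j = 1 := by
  have two : ∀ {a b : GL chevE6.Idx F4}, a * a = 1 → b * b = 1 → a * b = b * a → (a * b) ^ 2 = 1 := by
    intro a b ha hb h
    rw [pow_two, mul_assoc, h, ← mul_assoc b, hb, one_mul, ha]
  have three : ∀ {a b : GL chevE6.Idx F4}, a * a = 1 → b * b = 1 → a * (b * a) = b * (a * b) → (a * b) ^ 3 = 1 := by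
    intro a b ha hb h
    calc (a * b) ^ 3 = a * (b * a) * (b * (a * b)) := by simp only [pow_succ, pow_zero, one_mul, mul_assoc]
      _ = b * (a * b) * (b * (a * b)) := by rw [h]
      _ = a * (b * a) * (b * (a * b)) := by rw [h]
      _ = (a * (b * a)) * (a * (b * a)) := by rw [← h]
      _ = 1 := by simp only [← mul_assoc]; simp only [mul_assoc]; rw [← mul_assoc a a, ha, one_mul, ← mul_assoc b b, hb, one_mul, ha]
  unfold labelN
  split_ifs with h1 h2
  · subst h1; rw [pow_one]; exact genF_sq hi
  · rw [Bool.or_eq_true] at h2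
    rcases h2 with h | h
    · exact three (genF_sq hi) (genF_sq hj) (genF_braid hi hj (List.contains_iff_mem.1 h))
    · exact three (genF_sq hi) (genF_sq hj) (genF_braid hj hi (List.contains_iff_mem.1 h)).symm
  · rw [Bool.not_eq_true, Bool.or_eq_false_iff] at h2
    refine two (genF_sq hi) (genF_sq hj) ?_
    rcases lt_or_gt_of_ne h1 with h | h
    · exact genF_comm hi hj h h2.1
    · exact (genF_comm hj hi h h2.2).symm

theorem genF_extra :
    (([3, 2, 1, 3, 4, 5, 3, 7, 8] : List ℕ).map genF).prod ^ 10 = 1 ∧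
    (([0, 1, 2, 3, 4, 5, 7] : List ℕ).map genF).prod ^ 9 = 1 ∧
    (([1, 2, 3, 4, 5, 6, 7] : List ℕ).map genF).prod ^ 9 = 1 := by
  refine ⟨?_, ?_, ?_⟩
  · exact ((genF_word (by decide)).pow 10).ext (rel_extra.1 ▸ IsG.one)
  · exact ((genF_word (by decide)).pow 9).ext (rel_extra.2.1 ▸ IsG.one)
  · exact ((genF_word (by decide)).pow 9).ext (rel_extra.2.2 ▸ IsG.one)

/-! ### The centraliser -/

theorem exists_of_rows {N : ℕ} (hR : rowsLinear N = true) :
    ∃ M : Matrix chevE6.Idx chevE6.Idx F4, Is M N := by
  refine ⟨fun i j => F4.fromNat (getP N (idx i) (idx j)), Is.of_codes (fun k l => ?_) fun k l => ?_⟩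
  · simp only [rowsLinear, List.all_eq_true, List.mem_range] at hR
    exact Nat.eq_of_beq_eq_true (hR k k.isLt l l.isLt)
  · simp only [Equiv.apply_symm_apply]

theorem proj_mask {k l : Fin 78} (hl : l.val ≠ pivot) : getP projRows k l = 0 := by
  refine Nat.eq_of_testBit_eq fun b => ?_
  rw [getP, show (4 : ℕ) = 2 ^ 2 from rfl, Nat.testBit_mod_two_pow, Nat.testBit_shiftRight, Nat.zero_testBit]
  by_cases hb : b < 2
  · rw [decide_eq_true hb, Bool.true_and, ← proj_ok.1, Nat.testBit_and, add_assoc]
    have hlt : ∀ _i : ℕ, 3 * 2 ^ (2 * pivot) < 2 ^ 156 := fun _ => by decide +kernel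
    rw [testBit_pack _ _ hlt (2 * k.val) (2 * l.val + b) (by omega), mul_comm 3, Nat.testBit_two_pow_mul]
    have : (decide (2 * l.val + b ≥ 2 * pivot) && Nat.testBit 3 (2 * l.val + b - 2 * pivot)) = false := by
      rcases lt_or_gt_of_ne hl with h' | h'
      · rw [decide_eq_false (by omega), Bool.false_and]
      · rw [Nat.testBit_lt_two_pow (lt_of_lt_of_le (by norm_num : 3 < 2 ^ 2)
          (Nat.pow_le_pow_right (by norm_num) (by omega))), Bool.and_false]
    rw [this, Bool.and_false, Bool.and_false]
  · rw [decide_eq_false hb, Bool.false_and]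

theorem sum_rows : ∀ ws : List (List ℕ), (∀ w ∈ ws, ∀ k ∈ w, k < 9) →
    Is ((ws.map fun w => (((w.map genF).prod : GL chevE6.Idx F4) : Matrix chevE6.Idx chevE6.Idx F4)).sum)
      ((ws.map (prodF genData)).foldr Nat.xor 0)
  | [], _ => Is.zero
  | w :: ws, h => by
    rw [List.map_cons, List.sum_cons, List.map_cons, List.foldr_cons]
    exact Is.add (genF_word (h w List.mem_cons_self)) (sum_rows ws fun u hu => h u (List.mem_cons_of_mem _ hu))

/-- A matrix over any extension commuting with the last eight involutions is scalar. -/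
theorem scalar_of_commute {M : Type*} [Field M] (g : F4 →+* M) (z : Matrix chevE6.Idx chevE6.Idx M)
    (hz : ∀ i, 1 ≤ i → i < 9 →
      z * (genF i : Matrix chevE6.Idx chevE6.Idx F4).map g = (genF i : Matrix chevE6.Idx chevE6.Idx F4).map g * z) :
    ∃ c : M, z = c • 1 := by
  set A : Matrix chevE6.Idx chevE6.Idx F4 :=
    (algWords.map fun w => (((w.map genF).prod : GL chevE6.Idx F4) : Matrix chevE6.Idx chevE6.Idx F4)).sum with hAdef
  have hlet : ∀ w ∈ algWords, ∀ k ∈ w, 1 ≤ k ∧ k < 9 := by
    intro w hw k hk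
    have := List.all_eq_true.1 (List.all_eq_true.1 alg_letters w hw) k hk
    simp only [Bool.and_eq_true, decide_eq_true_eq] at this
    omega
  have hA : Is A algRows := sum_rows algWords fun w hw k hk => (hlet w hw k hk).2
  obtain ⟨B, hB⟩ := exists_of_rows linear_ok.1
  obtain ⟨P, hP⟩ := exists_of_rows linear_ok.2.1
  obtain ⟨Q, hQ⟩ := exists_of_rows linear_ok.2.2
  set E : Matrix chevE6.Idx chevE6.Idx F4 := B * A + 1
  have hE : Is E projRows := Is.add (Is.mul hB hA) Is.one
  have hPQ : P * Q = 1 := Is.ext (Is.mul hP hQ) (span_ok ▸ Is.one)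
  have hAE : A * E = 0 := Is.ext (Is.mul hA hE) (proj_ok.2.1 ▸ Is.zero)
  let p : Fin 78 := ⟨pivot, proj_ok.2.2⟩
  have hE0 : ∀ i j, j ≠ idx.symm p → E i j = 0 := by
    intro i j hj
    rw [← idx.symm_apply_apply i, ← idx.symm_apply_apply j, hE.entry, proj_mask]
    · rfl
    · intro e'
      exact hj (by rw [← idx.symm_apply_apply j]; exact congrArg idx.symm (Fin.ext e'))
  have hBA : B * A = 1 + E := by
    have h2 : (1 : Matrix chevE6.Idx chevE6.Idx F4) + 1 = 0 := by
      ext i j
      rw [Matrix.add_apply, Matrix.zero_apply]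
      exact (by decide : ∀ x : F4, x + x = 0) _
    rw [show (1 : Matrix chevE6.Idx chevE6.Idx F4) + E = B * A + (1 + 1) by simp only [E]; abel, h2, add_zero]
  set AM := A.map g
  set EM := E.map g
  have hcomm : z * AM = AM * z := by
    have : ∀ ws : List (List ℕ), (∀ w ∈ ws, ∀ k ∈ w, 1 ≤ k ∧ k < 9) →
        Commute z ((ws.map fun w => (((w.map genF).prod : GL chevE6.Idx F4) : Matrix chevE6.Idx chevE6.Idx F4)).sum.map g) := by
      intro ws
      induction ws with
      | nil => intro _; simp
      | cons w ws ih =>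
        intro h
        rw [List.map_cons, List.sum_cons, Matrix.map_add _ (map_add g)]
        refine Commute.add_right ?_ (ih fun u hu => h u (List.mem_cons_of_mem _ hu))
        have hw := h w List.mem_cons_self
        induction w with
        | nil => simp
        | cons k w ihw =>
          rw [List.map_cons, List.prod_cons, Units.val_mul, Matrix.map_mul]
          refine Commute.mul_right (hz k (hw k List.mem_cons_self).1 (hw k List.mem_cons_self).2) ?_
          exact ihw (fun u hu => by
            rcases List.mem_cons.1 hu with rfl | hu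
            · exact fun l hl => hw l (List.mem_cons_of_mem _ hl)
            · exact h u (List.mem_cons_of_mem _ hu)) fun l hl => hw l (List.mem_cons_of_mem _ hl)
    exact this algWords hlet
  set v : chevE6.Idx → M := fun i => EM i (idx.symm p)
  have hEv : ∀ u : chevE6.Idx → M, EM *ᵥ u = u (idx.symm p) • v := by
    intro u
    funext i
    rw [Matrix.mulVec, dotProduct, Finset.sum_eq_single (idx.symm p), Pi.smul_apply, smul_eq_mul, mul_comm]
    · intro j _ hj
      show g (E i j) * u j = 0
      rw [hE0 i j hj, map_zero, zero_mul]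
    · intro h; exact absurd (Finset.mem_univ _) h
  have hAv : AM *ᵥ v = 0 := by
    funext i
    have e : (AM * EM) i (idx.symm p) = 0 := by
      rw [← Matrix.map_mul, hAE, Matrix.map_zero _ (map_zero g), Matrix.zero_apply]
    exact e
  set c : M := -(z *ᵥ v) (idx.symm p)
  have hzv : z *ᵥ v = c • v := by
    have h1 : AM *ᵥ (z *ᵥ v) = 0 := by rw [Matrix.mulVec_mulVec, ← hcomm, ← Matrix.mulVec_mulVec, hAv, Matrix.mulVec_zero]
    have h2 : (B.map g * AM) *ᵥ (z *ᵥ v) = 0 := by rw [← Matrix.mulVec_mulVec, h1, Matrix.mulVec_zero]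
    rw [← Matrix.map_mul, hBA, Matrix.map_add _ (map_add g), Matrix.map_one _ (map_zero g) (map_one g),
      Matrix.add_mulVec, Matrix.one_mulVec, hEv] at h2
    rw [eq_neg_of_add_eq_zero_left h2, neg_smul]
  have hcol : ∀ k : ℕ, ∀ hk : k < 78, (z *ᵥ fun i => g (P i (idx.symm ⟨k, hk⟩))) = c • fun i => g (P i (idx.symm ⟨k, hk⟩)) := by
    intro k
    induction k using Nat.strong_induction_on with
    | _ k ih =>
      intro hk
      rcases Nat.eq_zero_or_pos k with rfl | hpos
      · have : (fun i => g (P i (idx.symm ⟨0, hk⟩))) = v := by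
          funext i
          show g _ = g (E i (idx.symm p))
          congr 1
          rw [← idx.symm_apply_apply i, hP.entry, hE.entry]
          exact congrArg F4.fromNat
            (Nat.eq_of_beq_eq_true (List.all_eq_true.1 tree_root _ (List.mem_range.2 (idx i).isLt)))
        rw [this]
        exact hzv
      · obtain ⟨k, rfl⟩ : ∃ m, k = m + 1 := ⟨k - 1, by omega⟩
        have ht := List.all_eq_true.1 tree_ok k (List.mem_range.2 (by omega))
        simp only [Bool.and_eq_true, decide_eq_true_eq] at ht
        obtain ⟨⟨⟨hpar, hg1⟩, hg8⟩, ht⟩ := ht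
        simp only [treeOk, List.all_eq_true, List.mem_range] at ht
        set l := (tree.getD k (0, 0)).2
        set q : Fin 78 := ⟨(tree.getD k (0, 0)).1, by omega⟩
        have e : (fun i => g (P i (idx.symm ⟨k + 1, hk⟩))) =
            ((genF l : Matrix chevE6.Idx chevE6.Idx F4).map g) *ᵥ fun i => g (P i (idx.symm q)) := by
          funext i
          show g _ = (((genF l : Matrix chevE6.Idx chevE6.Idx F4).map g) * P.map g) i (idx.symm q)
          rw [← Matrix.map_mul, Matrix.map_apply]
          congr 1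
          rw [← idx.symm_apply_apply i, hP.entry, (Is.mul (genF_rows (by omega : l < 9)) hP).entry]
          exact congrArg F4.fromNat (Nat.eq_of_beq_eq_true (ht _ (idx i).isLt))
        rw [e, Matrix.mulVec_mulVec, hz l hg1 (by omega), ← Matrix.mulVec_mulVec, ih q.val (by show (tree.getD k (0, 0)).1 < k + 1; omega) q.isLt,
          Matrix.mulVec_smul]
  refine ⟨c, ?_⟩
  have hzP : z * P.map g = c • P.map g := by
    ext i j
    have h := congrFun (hcol (idx j).val (idx j).isLt) i
    rw [Fin.eta, Equiv.symm_apply_apply] at h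
    simpa [Matrix.mul_apply, Matrix.mulVec, dotProduct] using h
  calc z = z * P.map g * Q.map g := by
        rw [Matrix.mul_assoc, ← Matrix.map_mul, hPQ, Matrix.map_one _ (map_zero g) (map_one g), Matrix.mul_one]
    _ = c • 1 := by
        rw [hzP, Matrix.smul_mul, ← Matrix.map_mul, hPQ, Matrix.map_one _ (map_zero g) (map_one g)]

end Cfsg.Agent.H55.Fi22E6
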