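import Cfsg.Agent.H55.Fi22E6.Elements
import Cfsg.Agent.H16.Fi22Order
import Cfsg.Agent.H16.O7Iso
import Cfsg.Agent.H36.Fi22Outer
import Cfsg.Agent.H4.AutOrders

/-!
Three classes of subgroups `Fi₂₂` and `Ω₇(3)` in `²E₆(2)`: one subgroup from nine involutions, and its
conjugates by an outer diagonal element.
-/

set_option autoImplicit false
set_option maxRecDepth 100000

namespace Cfsg.Agent.H55.Fi22E6

open Cfsg.Lie Cfsg.Spor Cfsg.Agent.H16 Cfsg.Agent.H46
open Cfsg.Agent.H65
open Cfsg.Agent.H64.AutChev (charOf isRootCharacter_charOf charOf_simple)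
open Cfsg.Agent.H67.ThreeF4 (delta delta_conj delta_cube delta_torus delta_not_mem delta_pow_conj eq_one_of_commute cVec cVec_rho)
open scoped Matrix MatrixGroups

/-- The position of a generator. -/
def num : Fi22.Gen → ℕ
  | .a => 0
  | .b => 1
  | .c => 2
  | .d => 3
  | .e => 4
  | .f => 5
  | .g => 6
  | .h => 7
  | .i => 8

theorem num_lt : ∀ x, num x < 9 := fun x => by cases x <;> decide

theorem label_eq (x y : Fi22.Gen) : coxLabel Fi22.edges x y = labelN (num x) (num y) := by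
  cases x <;> cases y <;> decide

theorem rels : ∀ r ∈ coxRelators Fi22.edges ∪ {r | r ∈ Fi22.extra},
    FreeGroup.lift (fun x => genF (num x)) r = 1 := by
  rintro r (⟨x, -, y, -, rfl⟩ | hr)
  · rw [map_pow, map_mul, FreeGroup.lift_apply_of, FreeGroup.lift_apply_of, label_eq]
    exact genF_cox (num_lt x) (num_lt y)
  · simp only [Fi22.extra, Set.mem_ofPred_eq, List.mem_cons, List.not_mem_nil, or_false] at hr
    rcases hr with rfl | rfl | rfl <;>
      simp only [Fi22.a, Fi22.b, Fi22.c, Fi22.d, Fi22.e, Fi22.f, Fi22.g, Fi22.h, Fi22.i, map_pow, map_mul,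
        FreeGroup.lift_apply_of, num]
    · simpa [mul_assoc] using genF_extra.1
    · simpa [mul_assoc] using genF_extra.2.1
    · simpa [mul_assoc] using genF_extra.2.2

/-- The representation over the field with four elements. -/
noncomputable def phi : Fi22 →* GL chevE6.Idx F4 := PresentedGroup.toGroup rels

theorem phi_of (x : Fi22.Gen) : phi (PresentedGroup.of x) = genF (num x) := PresentedGroup.toGroup.of rels

theorem genF_ne_one : genF 1 ≠ 1 := by
  intro h
  have e : Is 1 (genData.getD 1 0) := by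
    have := genF_rows (by norm_num : 1 < 9)
    rwa [IsG, h, Units.val_one] at this
  have h2 : (List.range 156).any (fun i => (List.range 156).any fun j =>
      xor ((genData.getD 1 0).testBit (156 * i + j)) (decide (i = j))) = true := by decide +kernel
  simp only [List.any_eq_true, List.mem_range] at h2
  obtain ⟨i, hi, j, hj, hne⟩ := h2
  have := (e (idx2.symm ⟨i, hi⟩) (idx2.symm ⟨j, hj⟩)).symm.trans (Is.one _ _)
  simp only [Equiv.apply_symm_apply] at this
  rw [bitN_oneN _ _ hi hj, bitN] at this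
  revert hne this
  cases (genData.getD 1 0).testBit (156 * i + j) <;> by_cases hij : i = j <;> simp [hij]

theorem phi_injective : Function.Injective phi := by
  haveI := Fi22Order.isSimple
  rw [← MonoidHom.ker_eq_bot_iff]
  refine (IsSimpleGroup.eq_bot_or_eq_top_of_normal phi.ker inferInstance).resolve_right fun h => genF_ne_one ?_
  rw [show 1 = num Fi22.Gen.b from rfl, ← phi_of]
  exact MonoidHom.mem_ker.1 (h ▸ Subgroup.mem_top _)

theorem baseWord_shape : (List.range 13).all (fun n =>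
    match (baseWords.getD n []).map (fun k => rootPairs.getD k (0, 0)) with
    | [(r, t)] => decide (r ∈ [e6p2, e6m2, e6p4, e6m4]) && decide (t = 1)
    | [(r, t), (r', t')] => decide ((r, r') ∈ [(e6p1, e6p6), (e6m1, e6m6), (e6p3, e6p5), (e6m3, e6m5)]) &&
        decide (t' = t * t)
    | _ => false) = true := by decide +kernel

section Field

variable (K : Type*) [Field K] [Fintype K] (hK : Fintype.card K = 4)

include hK

theorem charTwo : CharP K 2 := by
  obtain ⟨p, hp⟩ := CharP.exists K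
  obtain ⟨a, hpp, ha⟩ := FiniteField.card K p
  have h2 : p ∣ 2 := hpp.dvd_of_dvd_pow (n := 2) (by
    rw [show (2 : ℕ) ^ 2 = p ^ (a : ℕ) from hK.symm.trans ha]
    exact dvd_pow_self p a.ne_zero)
  obtain rfl := (Nat.prime_dvd_prime_iff_eq hpp Nat.prime_two).1 h2
  exact hp

theorem exists_hom : ∃ ω : Kˣ, orderOf ω = 3 ∧ (∀ x : Kˣ, x ^ 3 = 1) ∧ Nonempty (F4 →+* K) := by
  classical
  haveI := charTwo K hK
  have hunits : Nat.card Kˣ = 3 := by rw [Nat.card_eq_fintype_card, Fintype.card_units, hK]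
  obtain ⟨ω, hω'⟩ := IsCyclic.exists_generator (α := Kˣ)
  have hω : orderOf ω = 3 := (orderOf_eq_card_of_forall_mem_zpowers hω').trans hunits
  have h3 : (ω : K) ^ 3 = 1 := by rw [← Units.val_pow_eq_pow_val, ← hω, pow_orderOf_eq_one, Units.val_one]
  have h1 : (ω : K) ≠ 1 := fun h => by
    rw [show ω = 1 from Units.ext h, orderOf_one] at hω
    norm_num at hω
  have hq : (ω : K) ^ 2 + (ω : K) + 1 = 0 := by
    have : ((ω : K) - 1) * ((ω : K) ^ 2 + (ω : K) + 1) = 0 := by
      rw [show ((ω : K) - 1) * ((ω : K) ^ 2 + (ω : K) + 1) = (ω : K) ^ 3 - 1 by ring, h3, sub_self]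
    exact (mul_eq_zero.1 this).resolve_left (sub_ne_zero.2 h1)
  have htwo : (2 : K) = 0 := CharTwo.two_eq_zero
  let e : F4 → K := fun x => match x with
    | .zero => 0
    | .one => 1
    | .w => (ω : K)
    | .w2 => (ω : K) + 1
  refine ⟨ω, hω, fun x => by rw [← hunits]; exact pow_card_eq_one', ⟨RingHom.mk' ⟨⟨e, rfl⟩, ?_⟩ ?_⟩⟩
  · intro x y
    cases x <;> cases y <;>
      simp only [show ∀ a b : F4, a * b = F4.mul a b from fun _ _ => rfl, F4.mul, e] <;>
      first
        | ring1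
        | linear_combination ((ω : K) + 1) * htwo - hq
        | linear_combination htwo - hq
        | linear_combination -hq
  · intro x y
    cases x <;> cases y <;>
      simp only [show ∀ a b : F4, a + b = F4.add a b from fun _ _ => rfl, F4.add, MonoidHom.coe_mk, OneHom.coe_mk, e] <;>
      first
        | ring1
        | linear_combination -htwo
        | linear_combination -(ω : K) * htwo
        | linear_combination -((ω : K) + 1) * htwo

theorem twisted_le : (twistedE6 K 2 : Subgroup (GL chevE6.Idx K)) ≤ chevE6.group K := by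
  haveI := charTwo K hK
  set σ : K →+* K := frobenius K 2 with hσdef
  have hσ : ∀ x, σ x = x ^ 2 := fun x => frobenius_def 2 x
  have hG1 : twistedE6 K 2 = (tdE6 σ).G1 := twistedE6_eq σ hσ (by rw [hK]; rfl)
  have hgen : (twistedE6 K 2 : Subgroup (GL chevE6.Idx K)) = Subgroup.closure (graphE6.genSet goodE6 σ) := by
    rw [hG1, tdE6, graphE6.G1_eq_closure okE6 coxE6 σ]
  rw [hgen]
  refine (Subgroup.closure_le _).2 ?_
  rintro g ⟨j, c, -, rfl | rfl⟩ <;> refine Subgroup.list_prod_mem _ fun x hx => ?_ <;>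
    obtain ⟨k, -, rfl⟩ := List.mem_map.1 hx <;> exact goodE6.xg_mem_group _ _

theorem delta_normalises (ω : Kˣ) (hω : orderOf ω = 3) : ∀ (i : ℕ), ∀ g ∈ (twistedE6 K 2 : Subgroup (GL chevE6.Idx K)),
    delta ω ^ i * g * (delta ω ^ i)⁻¹ ∈ twistedE6 K 2 := by
  classical
  haveI := charTwo K hK
  have hK3 : ∀ x : Kˣ, x ^ 3 = 1 := fun x => by
    rw [← show Nat.card Kˣ = 3 by rw [Nat.card_eq_fintype_card, Fintype.card_units, hK]]
    exact pow_card_eq_one'
  set σ : K →+* K := frobenius K 2 with hσdef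
  have hσ : ∀ x, σ x = x ^ 2 := fun x => frobenius_def 2 x
  have hG1 : twistedE6 K 2 = (tdE6 σ).G1 := twistedE6_eq σ hσ (by rw [hK]; rfl)
  have hgen : (twistedE6 K 2 : Subgroup (GL chevE6.Idx K)) = Subgroup.closure (graphE6.genSet goodE6 σ) := by
    rw [hG1, tdE6, graphE6.G1_eq_closure okE6 coxE6 σ]
  have hδ1 : ∀ g ∈ (twistedE6 K 2 : Subgroup (GL chevE6.Idx K)), delta ω * g * (delta ω)⁻¹ ∈ twistedE6 K 2 := by
    intro g hg
    rw [hgen] at hg ⊢
    refine (Subgroup.closure_le ((Subgroup.closure (graphE6.genSet goodE6 σ)).comap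
      (MulAut.conj (delta ω)).toMonoidHom)).2 ?_ hg
    have hconj : ∀ (j : Fin graphE6.m) (r : Fin chevE6.rank → ℕ) (c : Fin chevE6.rank → K),
        (∀ k, r k < chevE6.nroots) →
        delta ω * (graphE6.orbProd j fun k => goodE6.xg (r k) (c k)) * (delta ω)⁻¹ =
          graphE6.orbProd j fun k => goodE6.xg (r k) ((charOf goodE6 (cVec ω) (r k) : K) * c k) := by
      intro j r c hr
      simp only [GraphData.orbProd]
      rw [← MulAut.conj_apply, map_list_prod, List.map_map]
      congr 1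
      exact List.map_congr_left fun k _ => by rw [Function.comp_apply, MulAut.conj_apply, delta_conj ω (hr k)]
    rintro g ⟨j, c, hc, rfl | rfl⟩
    · refine Subgroup.subset_closure ⟨j, fun k => (cVec ω k : K) * c k, fun k hk => ?_, Or.inl ?_⟩
      · show (cVec ω _ : K) * c _ = σ ((cVec ω k : K) * c k)
        rw [map_mul, ← hc k hk, hσ, cVec_rho (hK3 ω), Units.val_pow_eq_pow_val]
      · refine (hconj j _ c fun k => goodE6.simple_lt k.2).trans ?_
        simp only [charOf_simple]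
        rfl
    · refine Subgroup.subset_closure ⟨j, fun k => ((cVec ω k)⁻¹ : Kˣ) * c k, fun k hk => ?_, Or.inr ?_⟩
      · show ((cVec ω _)⁻¹ : Kˣ) * c _ = σ (((cVec ω k)⁻¹ : Kˣ) * c k)
        rw [map_mul, ← hc k hk, hσ, cVec_rho (hK3 ω), ← Units.val_pow_eq_pow_val, inv_pow]
      · refine (hconj j _ c fun k => goodE6.neg_lt (goodE6.simple_lt k.2)).trans ?_
        simp only [Cfsg.Agent.H64.AutChev.charOf_neg goodE6 _ (goodE6.simple_lt (Fin.isLt _)), charOf_simple]
        rfl
  have hδi : ∀ (i : ℕ), ∀ g ∈ (twistedE6 K 2 : Subgroup (GL chevE6.Idx K)),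
      delta ω ^ i * g * (delta ω ^ i)⁻¹ ∈ twistedE6 K 2 := by
    intro i
    induction i with
    | zero => intro g hg; simpa using hg
    | succ i ih =>
      intro g hg
      have e : delta ω ^ (i + 1) * g * (delta ω ^ (i + 1))⁻¹ =
          delta ω * (delta ω ^ i * g * (delta ω ^ i)⁻¹) * (delta ω)⁻¹ := by rw [pow_succ']; group
      rw [e]
      exact hδ1 _ (ih g hg)
  exact hδi

theorem baseGL_mem (f : F4 →+* K) {n : ℕ} (hn : n < 13) : mapGL chevE6 f (baseGL n) ∈ twistedE6 K 2 := by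
  have h := List.all_eq_true.1 baseWord_shape n (List.mem_range.2 hn)
  set l := (baseWords.getD n []).map fun k => rootPairs.getD k (0, 0) with hl
  refine Subgroup.subset_closure ⟨l.map fun p => (p.1, f p.2), ?_, ?_⟩
  · rcases l with _ | ⟨⟨r, t⟩, _ | ⟨⟨r', t'⟩, _ | ⟨q, l⟩⟩⟩
    · exact absurd h (by simp)
    · simp only [Bool.and_eq_true, decide_eq_true_eq] at h
      exact Or.inl ⟨f t, by rw [h.2, map_one, one_pow], r, h.1, rfl⟩
    · simp only [Bool.and_eq_true, decide_eq_true_eq] at h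
      exact Or.inr ⟨f t, (r, r'), h.1, by rw [h.2]; simp [pow_two]⟩
    · exact absurd h (by simp)
  · rw [baseGL, map_list_prod, ← Units.coeHom_apply, map_list_prod, ChevalleyDatum.wordMat, hl]
    simp only [List.map_map]
    congr 1
    refine List.map_congr_left fun k _ => ?_
    simp only [Function.comp_apply, Units.coeHom_apply, rootGL, mapGL_xg goodE6, goodE6.coe_xg]

/-- The representation over a field with four elements. -/
noncomputable def rho (f : F4 →+* K) : Fi22 →* GL chevE6.Idx K := (mapGL chevE6 f).comp phi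

theorem rho_le (f : F4 →+* K) : (rho K f).range ≤ twistedE6 K 2 := by
  rw [MonoidHom.range_eq_map, ← PresentedGroup.closure_range_of, MonoidHom.map_closure, Subgroup.closure_le]
  rintro _ ⟨_, ⟨x, rfl⟩, rfl⟩
  show mapGL chevE6 f (phi _) ∈ twistedE6 K 2
  rw [phi_of, genF, map_list_prod, List.map_map]
  refine Subgroup.list_prod_mem _ fun y hy => ?_
  obtain ⟨k, hk, rfl⟩ := List.mem_map.1 hy
  refine baseGL_mem K hK f ?_
  have hlt : num x < genWords.length := by rw [word_bounds.2.2.2]; exact num_lt x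
  rw [List.getD_eq_getElem _ _ hlt] at hk
  exact of_decide_eq_true (List.all_eq_true.1 (List.all_eq_true.1 word_bounds.2.1 _ (List.getElem_mem hlt)) k hk)

/-- A subgroup containing the last eight involutions whose automorphisms square to inner ones gives three
classes. -/
theorem three_classes (f : F4 →+* K) (ω : Kˣ) (hω : orderOf ω = 3) (hK3 : ∀ x : Kˣ, x ^ 3 = 1)
    (H0 : Subgroup (GL chevE6.Idx K)) (hle0 : H0 ≤ twistedE6 K 2)
    (hgen : ∀ i, 1 ≤ i → i < 9 → mapGL chevE6 f (genF i) ∈ H0)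
    (haut : ∀ φ : MulAut H0, ∃ h : H0, φ * φ = MulAut.conj h) :
    ∃ H : Fin 3 → Subgroup (twistedE6 K 2), (∀ i, Nonempty (H i ≃* H0)) ∧
      (∀ i j, i ≠ j → ∀ g : (twistedE6 K 2), (H i).map (MulAut.conj g).toMonoidHom ≠ H j) := by
  haveI := charTwo K hK
  have hδi := Cfsg.Agent.H55.Fi22E6.delta_normalises K hK ω hω
  have hle : (twistedE6 K 2 : Subgroup (GL chevE6.Idx K)) ≤ chevE6.group K := twisted_le K hK
  have hHi : ∀ i : Fin 3, H0.map (MulAut.conj (delta ω ^ (i : ℕ))).toMonoidHom ≤ twistedE6 K 2 := by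
    rintro i _ ⟨h, hh, rfl⟩
    exact hδi i h (hle0 hh)
  refine ⟨fun i => (H0.map (MulAut.conj (delta ω ^ (i : ℕ))).toMonoidHom).subgroupOf (twistedE6 K 2),
    fun i => ⟨(Subgroup.subgroupOfEquivOfLe (hHi i)).trans
      (Subgroup.equivMapOfInjective _ _ (MulEquiv.injective _)).symm⟩, ?_⟩
  intro i j hij g hmap
  set δ := delta ω
  set y : GL chevE6.Idx K := (δ ^ (j : ℕ))⁻¹ * (g : GL chevE6.Idx K) * δ ^ (i : ℕ)
  have hyH : ∀ h, h ∈ H0 ↔ y * h * y⁻¹ ∈ H0 := by
    intro h
    constructor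
    · intro hh
      have h0 : (⟨_, hHi i ⟨h, hh, rfl⟩⟩ : twistedE6 K 2) ∈
          (H0.map (MulAut.conj (δ ^ (i : ℕ))).toMonoidHom).subgroupOf (twistedE6 K 2) := ⟨h, hh, rfl⟩
      have h1 := Subgroup.mem_map_of_mem (MulAut.conj g).toMonoidHom h0
      simp only at hmap
      rw [hmap] at h1
      obtain ⟨h', hh', e⟩ := h1
      simp only [MulEquiv.coe_toMonoidHom, MulAut.conj_apply, Subgroup.subtype_apply, Subgroup.coe_mul,
        Subgroup.coe_inv] at e
      have : y * h * y⁻¹ = h' := by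
        calc y * h * y⁻¹ = (δ ^ (j : ℕ))⁻¹ * ((g : GL chevE6.Idx K) * (δ ^ (i : ℕ) * h * (δ ^ (i : ℕ))⁻¹) *
              (g : GL chevE6.Idx K)⁻¹) * δ ^ (j : ℕ) := by simp only [y]; group
          _ = _ := by rw [← e]; group
      rw [this]
      exact hh'
    · intro hh
      have h0 : (⟨_, hHi j ⟨_, hh, rfl⟩⟩ : twistedE6 K 2) ∈
          (H0.map (MulAut.conj (δ ^ (j : ℕ))).toMonoidHom).subgroupOf (twistedE6 K 2) := ⟨_, hh, rfl⟩
      simp only at hmap
      rw [← hmap] at h0
      obtain ⟨a, ⟨h', hh', ea⟩, e⟩ := h0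
      have e' := congrArg Subtype.val e
      simp only [MulEquiv.coe_toMonoidHom, MulAut.conj_apply, Subgroup.subtype_apply, Subgroup.coe_mul,
        Subgroup.coe_inv] at e' ea
      rw [← ea] at e'
      have : h = h' := by
        calc h = y⁻¹ * ((δ ^ (j : ℕ))⁻¹ * (δ ^ (j : ℕ) * (y * h * y⁻¹) * (δ ^ (j : ℕ))⁻¹) * δ ^ (j : ℕ)) * y := by
              group
          _ = _ := by rw [← e']; simp only [y]; group
      rw [this]
      exact hh'
  let φ : MulAut H0 :=
    { toFun := fun h => ⟨y * h * y⁻¹, (hyH h).1 h.2⟩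
      invFun := fun h => ⟨y⁻¹ * h * y, (hyH _).2 (by
        rw [show y * (y⁻¹ * (h : GL chevE6.Idx K) * y) * y⁻¹ = h by group]; exact h.2)⟩
      left_inv := fun h => Subtype.ext (by show y⁻¹ * (y * (h : GL chevE6.Idx K) * y⁻¹) * y = h; group)
      right_inv := fun h => Subtype.ext (by show y * (y⁻¹ * (h : GL chevE6.Idx K) * y) * y⁻¹ = h; group)
      map_mul' := fun a b => Subtype.ext (by
        show y * ((a : GL chevE6.Idx K) * b) * y⁻¹ = (y * a * y⁻¹) * (y * b * y⁻¹); group) }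
  obtain ⟨h, hφ⟩ := haut φ
  set z := (h : GL chevE6.Idx K)⁻¹ * (y * y) with hzdef
  have hzc : ∀ a ∈ H0, z * a = a * z := by
    intro a ha
    have e := congrArg Subtype.val (DFunLike.congr_fun hφ ⟨a, ha⟩)
    change y * (y * a * y⁻¹) * y⁻¹ = (h : GL chevE6.Idx K) * a * (h : GL chevE6.Idx K)⁻¹ at e
    calc z * a = (h : GL chevE6.Idx K)⁻¹ * (y * (y * a * y⁻¹) * y⁻¹) * (y * y) := by rw [hzdef]; group
      _ = _ := by rw [e, hzdef]; group
  let M := AlgebraicClosure K
  let ι := algebraMap K M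
  obtain ⟨η₀, hη₀⟩ := IsAlgClosed.exists_pow_nat_eq (ι (ω : K)) (n := 3) (by norm_num)
  have hη0 : η₀ ≠ 0 := fun e => by
    rw [e, zero_pow (by norm_num)] at hη₀
    exact (ω.map (ι : K →* M)).ne_zero hη₀.symm
  have hη : Units.map ι.toMonoidHom ω = Units.mk0 η₀ hη0 ^ 3 := Units.ext (by simpa using hη₀.symm)
  have hδM : mapGL chevE6 ι δ ∈ chevE6.group M := by
    rw [delta_torus ι ω _ hη]
    exact goodE6.diagonal_le_group (goodE6.mem_diagonal.2 ⟨_, rfl⟩)
  have hgM : mapGL chevE6 ι (g : GL chevE6.Idx K) ∈ chevE6.group M := Cfsg.Agent.H65.mapGL_mem_group ι (hle g.2)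
  have hhM : mapGL chevE6 ι (h : GL chevE6.Idx K) ∈ chevE6.group M := Cfsg.Agent.H65.mapGL_mem_group ι (hle (hle0 h.2))
  have hzM : mapGL chevE6 ι z ∈ chevE6.group M := by
    simp only [hzdef, y, map_mul, map_inv, map_pow]
    exact mul_mem (inv_mem hhM) (mul_mem (mul_mem (mul_mem (inv_mem (pow_mem hδM _)) hgM) (pow_mem hδM _))
      (mul_mem (mul_mem (inv_mem (pow_mem hδM _)) hgM) (pow_mem hδM _)))
  obtain ⟨c, hc⟩ := scalar_of_commute (ι.comp f) ((mapGL chevE6 ι z : GL chevE6.Idx M) : Matrix _ _ M) (by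
    intro k hk1 hk9
    have e := congrArg (fun u => ((mapGL chevE6 ι u : GL chevE6.Idx M) : Matrix chevE6.Idx chevE6.Idx M))
      (hzc _ (hgen k hk1 hk9))
    simp only [map_mul, Units.val_mul] at e
    rw [show ((genF k : Matrix chevE6.Idx chevE6.Idx F4)).map (ι.comp f) =
      ((mapGL chevE6 ι (mapGL chevE6 f (genF k)) : GL chevE6.Idx M) : Matrix _ _ M) from by
        rw [coe_mapGL, coe_mapGL, Matrix.map_map]; rfl]
    exact e)
  have hscal : ∀ w : GL chevE6.Idx M, mapGL chevE6 ι z * w = w * mapGL chevE6 ι z := fun w =>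
    Units.ext (by rw [Units.val_mul, Units.val_mul, hc, Matrix.smul_mul, Matrix.mul_smul, one_mul, mul_one])
  have hz1 : z = 1 := mapGL_injective ι ((eq_one_of_commute hzM (fun _ => hscal _) (fun _ => hscal _)).trans
    (map_one _).symm)
  rw [hzdef, inv_mul_eq_one] at hz1
  -- now a power of `δ` lies in the Chevalley group
  have hd3 : δ ^ 3 = 1 := delta_cube (hK3 ω)
  set n := 2 * (j : ℕ) + (i : ℕ)
  set g' := (δ ^ (i : ℕ))⁻¹ * (g : GL chevE6.Idx K) * δ ^ (i : ℕ)
  have hpow : ∀ k : ℕ, (δ ^ k)⁻¹ = δ ^ (2 * k) := fun k => inv_eq_of_mul_eq_one_right (by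
    rw [← pow_add, show k + 2 * k = 3 * k by ring, pow_mul, hd3, one_pow])
  have hg' : g' ∈ chevE6.group K := by
    have := delta_pow_conj ω (2 * (i : ℕ)) (hle g.2)
    rw [← hpow, inv_inv] at this
    exact this
  have hy : y = δ ^ n * g' := by
    simp only [y, g', n, pow_add, ← hpow (j : ℕ)]
    group
  have hmem : δ ^ (2 * n) ∈ chevE6.group K := by
    have hg'' : δ ^ (2 * n) * g' * (δ ^ (2 * n))⁻¹ ∈ chevE6.group K := delta_pow_conj ω _ hg'
    have e : δ ^ (2 * n) = (h : GL chevE6.Idx K) * g'⁻¹ * (δ ^ (2 * n) * g' * (δ ^ (2 * n))⁻¹)⁻¹ := by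
      have h3 : δ ^ (2 * n) * δ ^ (2 * n) = δ ^ n := by
        rw [← pow_add, show 2 * n + 2 * n = 3 * n + n by ring, pow_add, pow_mul, hd3, one_pow, one_mul]
      have h4 : (δ ^ (2 * n))⁻¹ = δ ^ n := by
        rw [← hpow n, inv_inv]
      have h5 : y * y = δ ^ (2 * n) * (δ ^ (2 * n) * g' * (δ ^ (2 * n))⁻¹) * g' := by
        rw [hy, h4, show δ ^ (2 * n) * (δ ^ (2 * n) * g' * δ ^ n) = (δ ^ (2 * n) * δ ^ (2 * n)) * g' * δ ^ n by
          group, h3]
        group
      rw [hz1, h5]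
      group
    rw [e]
    exact mul_mem (mul_mem (hle (hle0 h.2)) (inv_mem hg')) (inv_mem hg'')
  have hne : (2 * n) % 3 ≠ 0 := by
    intro hh
    exact hij (Fin.ext (by omega))
  rw [pow_eq_pow_mod _ hd3] at hmem
  refine delta_not_mem ι hK3 hω _ hη ?_
  obtain hh | hh : (2 * n) % 3 = 1 ∨ (2 * n) % 3 = 2 := by omega
  · rwa [hh, pow_one] at hmem
  · rw [hh] at hmem
    have e : δ = (δ ^ 2)⁻¹ := eq_inv_of_mul_eq_one_left (by rw [← pow_succ']; exact hd3)
    show δ ∈ _
    rw [e]
    exact inv_mem hmem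

end Field

/-- Squares of automorphisms are inner when the inner ones have index two. -/
theorem sq_inner {G : Type*} [Group G] (h : (MulAut.conj : G →* MulAut G).range.index = 2) (φ : MulAut G) :
    ∃ x : G, φ * φ = MulAut.conj x := by
  obtain ⟨x, hx⟩ := Subgroup.mul_self_mem_of_index_two h φ
  exact ⟨x, hx.symm⟩

/-- The property of squares transported along an isomorphism. -/
theorem sq_inner_congr {G H : Type*} [Group G] [Group H] (e : G ≃* H)
    (hG : ∀ φ : MulAut G, ∃ x : G, φ * φ = MulAut.conj x) (φ : MulAut H) :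
    ∃ y : H, φ * φ = MulAut.conj y := by
  obtain ⟨x, hx⟩ := hG (e.trans (φ.trans e.symm))
  refine ⟨e x, MulEquiv.ext fun b => ?_⟩
  have h := congrArg e (DFunLike.congr_fun hx (e.symm b))
  simpa [MulAut.mul_apply] using h

/-- Squares of automorphisms of the simple orthogonal group are inner. -/
theorem sq_inner_pOmega (φ : MulAut (Cfsg.POmega (ZMod 3) (Cfsg.quadFormOdd 3 (ZMod 3)))) :
    ∃ x, φ * φ = MulAut.conj x := by
  haveI : Fact (Nat.Prime 3) := ⟨by norm_num⟩
  refine sq_inner ?_ φ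
  set G := Cfsg.POmega (ZMod 3) (Cfsg.quadFormOdd 3 (ZMod 3))
  have hA : Nat.card (MulAut G) = 2 * 1 * Nat.card G :=
    Cfsg.Agent.H4.card_aut_odd (p := 3) (f := 1) le_rfl (by rw [ZMod.card, pow_one]) (by norm_num) le_rfl
  haveI : IsSimpleGroup O7U.Grp := O7Order.isSimple
  obtain ⟨e⟩ := O7Iso.nonempty_equiv_pOmega
  have hinj : Function.Injective (MulAut.conj : G →* MulAut G) := by
    rw [injective_iff_map_eq_one]
    intro x hx
    rcases IsSimpleGroup.eq_bot_or_eq_top_of_normal (Subgroup.center O7U.Grp) inferInstance with h | h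
    · have : e.symm x ∈ Subgroup.center O7U.Grp := Subgroup.mem_center_iff.2 fun a => e.injective (by
        have := DFunLike.congr_fun hx (e a)
        rw [MulAut.conj_apply, MulAut.one_apply, mul_inv_eq_iff_eq_mul] at this
        rw [map_mul, map_mul, e.apply_symm_apply, this])
      rw [h, Subgroup.mem_bot] at this
      exact (map_eq_one_iff e.symm e.symm.injective).1 this
    · exfalso
      have hp : commutator O7U.Grp = ⊥ := (commutator_eq_bot_iff_center_eq_top _).2 h
      rw [O7Iso.perfect] at hp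
      exact top_ne_bot hp
  have hr : Nat.card (MulAut.conj : G →* MulAut G).range = Nat.card G :=
    (Nat.card_congr (MonoidHom.ofInjective hinj).toEquiv).symm
  have hpos : 0 < Nat.card G := by rw [O7Iso.card_pOmega]; norm_num
  have := (MulAut.conj : G →* MulAut G).range.card_mul_index
  rw [hr, hA] at this
  exact Nat.eq_of_mul_eq_mul_left hpos (by rw [this]; ring)

/-- The simple orthogonal group has trivial centre before passing to the quotient. -/
theorem center_omega : Subgroup.center (Cfsg.Omega (ZMod 3) (Cfsg.quadFormOdd 3 (ZMod 3))) = ⊥ := by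
  have h2 : (2 : ZMod 3) ≠ 0 := by decide
  haveI : Fact (Nat.Prime 3) := ⟨by norm_num⟩
  let Q := H5.qOdd 3 (ZMod 3)
  have hQ := H5.qOdd_nondegenerate (F := ZMod 3) 3 h2
  have hn : Module.finrank (ZMod 3) (Unit ⊕ (Fin 3 ⊕ Fin 3) → ZMod 3) = 7 := by simp
  have hc := H4.card_center_commutator (Q := Q) hQ (by rw [hn]; norm_num)
  rw [if_neg fun h => by
    have := ((H4.negOrth_mem_iff h2 hQ (Pi.basisFun (ZMod 3) _) (by rw [hn]; norm_num)).1 h.2).1
    rw [hn] at this
    exact absurd this (by decide)] at hc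
  have e := H5.omegaEquiv Q (H5.coe_qOdd (F := ZMod 3) 3)
  refine (Subgroup.eq_bot_iff_forall _).2 fun z hz => ?_
  have hz' : e z ∈ Subgroup.center (commutator (H5.orth Q)) := Subgroup.mem_center_iff.2 fun a => by
    obtain ⟨b, rfl⟩ := e.surjective a
    rw [← map_mul, ← map_mul, Subgroup.mem_center_iff.1 hz b]
  haveI : Subsingleton (Subgroup.center (commutator (H5.orth Q))) := (Nat.card_eq_one_iff_unique.1 hc).1
  have := Subsingleton.elim (⟨e z, hz'⟩ : Subgroup.center (commutator (H5.orth Q))) 1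
  exact (map_eq_one_iff e e.injective).1 (congrArg Subtype.val this)

theorem mem_oSub {i : ℕ} (h1 : 1 ≤ i) (h9 : i < 9) : ∃ x : Fi22, x ∈ Fi22Order.oSub ∧ phi x = genF i := by
  obtain ⟨x, rfl⟩ : ∃ x : Fi22.Gen, num x = i := by
    interval_cases i
    exacts [⟨.b, rfl⟩, ⟨.c, rfl⟩, ⟨.d, rfl⟩, ⟨.e, rfl⟩, ⟨.f, rfl⟩, ⟨.g, rfl⟩, ⟨.h, rfl⟩, ⟨.i, rfl⟩]
  refine ⟨PresentedGroup.of x, Subgroup.subset_closure ⟨num x, ?_, ?_⟩, phi_of x⟩
  · cases x <;> first | decide | exact absurd h1 (by decide)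
  · cases x <;> rfl

/-- Three classes of subgroups `Fi₂₂`. -/
theorem three_fi22 (K : Type*) [Field K] [Fintype K] (hK : Fintype.card K = 4) :
    ∃ H : Fin 3 → Subgroup (twistedE6 K 2), (∀ i, Cfsg.Spor.IsoFi22 (H i)) ∧
      (∀ i j, i ≠ j → ∀ g : (twistedE6 K 2), (H i).map (MulAut.conj g).toMonoidHom ≠ H j) := by
  obtain ⟨ω, hω, hK3, ⟨f⟩⟩ := exists_hom K hK
  have hinj : Function.Injective (rho K f) := (mapGL_injective f).comp phi_injective
  let e : Fi22 ≃* (rho K f).range := MonoidHom.ofInjective hinj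
  have hidx : (MulAut.conj : Fi22 →* MulAut Fi22).range.index = 2 := by
    rw [Subgroup.index_eq_card]
    exact Cfsg.Agent.H36.Fi22.card_out_fi22
  obtain ⟨H, hH, hne⟩ := three_classes K hK f ω hω hK3 (rho K f).range (rho_le K hK f)
    (fun i h1 h9 => by
      obtain ⟨x, -, hx⟩ := mem_oSub h1 h9
      exact ⟨x, congrArg (mapGL chevE6 f) hx⟩)
    (sq_inner_congr e (sq_inner hidx))
  exact ⟨H, fun i => ⟨(hH i).some.trans e.symm⟩, hne⟩

/-- Three classes of subgroups `Ω₇(3)`. -/
theorem three_o7 (K : Type*) [Field K] [Fintype K] (hK : Fintype.card K = 4) :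
    ∃ H : Fin 3 → Subgroup (twistedE6 K 2),
      (∀ i, Nonempty ((H i) ≃* Cfsg.Omega (ZMod 3) (Cfsg.quadFormOdd 3 (ZMod 3)))) ∧
      (∀ i j, i ≠ j → ∀ g : (twistedE6 K 2), (H i).map (MulAut.conj g).toMonoidHom ≠ H j) := by
  obtain ⟨ω, hω, hK3, ⟨f⟩⟩ := exists_hom K hK
  have hinj : Function.Injective (rho K f) := (mapGL_injective f).comp phi_injective
  obtain ⟨eP⟩ := O7Iso.oSub_equiv
  let e : Cfsg.POmega (ZMod 3) (Cfsg.quadFormOdd 3 (ZMod 3)) ≃* Fi22Order.oSub.map (rho K f) :=
    eP.symm.trans (Subgroup.equivMapOfInjective _ _ hinj)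
  obtain ⟨H, hH, hne⟩ := three_classes K hK f ω hω hK3 (Fi22Order.oSub.map (rho K f))
    ((Subgroup.map_le_range _ _).trans (rho_le K hK f))
    (fun i h1 h9 => by
      obtain ⟨x, hm, hx⟩ := mem_oSub h1 h9
      exact ⟨x, hm, congrArg (mapGL chevE6 f) hx⟩)
    (sq_inner_congr e sq_inner_pOmega)
  exact ⟨H, fun i => ⟨(hH i).some.trans (e.symm.trans
    ((QuotientGroup.quotientMulEquivOfEq center_omega).trans QuotientGroup.quotientBot))⟩, hne⟩

end Cfsg.Agent.H55.Fi22E6
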