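import Mathlib

/-!
Square matrices of side 156 over the field with two elements, packed into one natural number each. A product takes
one shift, mask and multiplication for each column.
-/

set_option autoImplicit false
set_option maxRecDepth 100000

namespace Cfsg.Agent.H55.Fi22E6

/-- The blocks `f 0, f 1, …` of width 156 put side by side. -/
def pack : ℕ → (ℕ → ℕ) → ℕ
  | 0, _ => 0
  | n + 1, f => f 0 + 2 ^ 156 * pack n fun i => f (i + 1)

theorem testBit_pack : ∀ (n : ℕ) (f : ℕ → ℕ), (∀ i, f i < 2 ^ 156) → ∀ i j, j < 156 →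
    (pack n f).testBit (156 * i + j) = (decide (i < n) && (f i).testBit j)
  | 0, f, _, i, j, _ => by simp [pack]
  | n + 1, f, hf, i, j, hj => by
    rw [pack, add_comm (f 0), Nat.testBit_two_pow_mul_add _ (hf 0)]
    rcases i with _ | i
    · simp [hj]
    · rw [if_neg (by omega), show 156 * (i + 1) + j - 156 = 156 * i + j by omega,
        testBit_pack n _ (fun i => hf (i + 1)) i j hj]
      simp

theorem pack_lt : ∀ (n : ℕ) (f : ℕ → ℕ), (∀ i, f i < 2 ^ 156) → pack n f < 2 ^ (156 * n)
  | 0, _, _ => by simp [pack]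
  | n + 1, f, hf => by
    have h := pack_lt n (fun i => f (i + 1)) fun i => hf (i + 1)
    rw [pack, show 156 * (n + 1) = 156 + 156 * n by ring, pow_add]
    nlinarith [hf 0, Nat.two_pow_pos 156]

theorem pack_mul : ∀ (n : ℕ) (f : ℕ → ℕ) (r : ℕ), pack n f * r = pack n fun i => f i * r
  | 0, _, r => by simp [pack]
  | n + 1, f, r => by
    rw [pack, pack, ← pack_mul n (fun i => f (i + 1)) r]
    ring

/-- The lowest digit of each row. -/
def colMask : ℕ := pack 156 fun _ => 1

/-- Row `k`. -/
def rowN (A k : ℕ) : ℕ := A >>> (156 * k) % 2 ^ 156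

theorem testBit_rowN (A k j : ℕ) (hj : j < 156) : (rowN A k).testBit j = A.testBit (156 * k + j) := by
  rw [rowN, Nat.testBit_mod_two_pow, Nat.testBit_shiftRight, decide_eq_true hj, Bool.true_and]

/-- A column times a row. -/
def outerN (A B k : ℕ) : ℕ := ((A >>> k) &&& colMask) * rowN B k

theorem testBit_outerN (A B k i j : ℕ) (hi : i < 156) (hj : j < 156) :
    (outerN A B k).testBit (156 * i + j) = (A.testBit (156 * i + k) && B.testBit (156 * k + j)) := by
  have hX : (A >>> k) &&& colMask = pack 156 fun i => if A.testBit (156 * i + k) then 1 else 0 := by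
    refine Nat.eq_of_testBit_eq fun m => ?_
    obtain ⟨a, b, hb, rfl⟩ : ∃ a b, b < 156 ∧ m = 156 * a + b :=
      ⟨m / 156, m % 156, Nat.mod_lt _ (by norm_num), (Nat.div_add_mod m 156).symm⟩
    rw [Nat.testBit_and, Nat.testBit_shiftRight, colMask, testBit_pack _ _ (fun _ => by norm_num) a b hb,
      testBit_pack _ _ (fun i => by split_ifs <;> norm_num) a b hb]
    rcases b with _ | b
    · rw [add_zero, add_comm k]
      cases A.testBit (156 * a + k) <;> simp
    · have h1 : Nat.testBit 1 (b + 1) = false := by simp [Nat.testBit_succ]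
      split_ifs <;> simp [h1]
  rw [outerN, hX, pack_mul, testBit_pack _ _ (fun i => ?_) i j hj, decide_eq_true hi, Bool.true_and]
  · cases hA : A.testBit (156 * i + k)
    · simp
    · simp [testBit_rowN B k j hj]
  · have : rowN B k < 2 ^ 156 := Nat.mod_lt _ (Nat.two_pow_pos _)
    split_ifs <;> omega

/-- The sum of the first `n` terms of a product. -/
def mulUpTo (A B : ℕ) : ℕ → ℕ
  | 0 => 0
  | n + 1 => mulUpTo A B n ^^^ outerN A B n

/-- The product. -/
def mulN (A B : ℕ) : ℕ := mulUpTo A B 156

/-- The digit at a position, in the field with two elements. -/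
def bitN (A i j : ℕ) : ZMod 2 := if A.testBit (156 * i + j) then 1 else 0

theorem bitN_xor (A B i j : ℕ) : bitN (A ^^^ B) i j = bitN A i j + bitN B i j := by
  simp only [bitN, Nat.testBit_xor]
  cases A.testBit (156 * i + j) <;> cases B.testBit (156 * i + j) <;> decide

theorem bitN_zero (i j : ℕ) : bitN 0 i j = 0 := by simp [bitN]

theorem bitN_mulUpTo (A B i j : ℕ) (hi : i < 156) (hj : j < 156) : ∀ n,
    bitN (mulUpTo A B n) i j = ∑ k ∈ Finset.range n, bitN A i k * bitN B k j
  | 0 => by simp [mulUpTo, bitN_zero]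
  | n + 1 => by
    rw [mulUpTo, bitN_xor, bitN_mulUpTo A B i j hi hj n, Finset.sum_range_succ]
    congr 1
    simp only [bitN, testBit_outerN A B n i j hi hj]
    cases A.testBit (156 * i + n) <;> cases B.testBit (156 * n + j) <;> simp

/-- The identity. -/
def oneN : ℕ := pack 156 fun i => 2 ^ (i % 156)

theorem bitN_oneN (i j : ℕ) (hi : i < 156) (hj : j < 156) : bitN oneN i j = if i = j then 1 else 0 := by
  have hlt : ∀ i, 2 ^ (i % 156) < 2 ^ 156 := fun i =>
    Nat.pow_lt_pow_right (by norm_num) (Nat.mod_lt _ (by norm_num))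
  rw [bitN, oneN, testBit_pack _ _ hlt i j hj, decide_eq_true hi, Bool.true_and, Nat.mod_eq_of_lt hi,
    Nat.testBit_two_pow]
  by_cases h : i = j <;> simp [h]

/-- A power. -/
def powN (A : ℕ) : ℕ → ℕ
  | 0 => oneN
  | k + 1 => mulN (powN A k) A

end Cfsg.Agent.H55.Fi22E6
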