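import Cfsg.Agent.H55.Fi22E6.Packed
import Cfsg.Agent.H16.F4
import Cfsg.Prelude.Def_LieTwisted

/-!
Matrices on the adjoint module of type E₆ over the field with four elements, written over the field with two
elements with rows as natural numbers.
-/

set_option autoImplicit false
set_option maxRecDepth 100000

namespace Cfsg.Agent.H55.Fi22E6

open Cfsg.Agent.H16 Cfsg.Lie

/-- The regular representation of the field with four elements. -/
def rep : F4 →+* Matrix (Fin 2) (Fin 2) (ZMod 2) where
  toFun x := match x with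
    | .zero => 0
    | .one => 1
    | .w => !![0, 1; 1, 1]
    | .w2 => !![1, 1; 1, 0]
  map_one' := rfl
  map_zero' := rfl
  map_mul' := by decide
  map_add' := by decide

variable {ι : Type} [Fintype ι] [DecidableEq ι]

/-- The matrices over the field with two elements. -/
noncomputable def enc : Matrix ι ι F4 →+* Matrix (ι × Fin 2) (ι × Fin 2) (ZMod 2) :=
  (Matrix.compRingEquiv ι (Fin 2) (ZMod 2)).toRingHom.comp rep.mapMatrix

theorem enc_apply (M : Matrix ι ι F4) (i j : ι) (a b : Fin 2) :
    enc M (i, a) (j, b) = rep (M i j) a b := rfl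

theorem rep_injective : Function.Injective rep := RingHom.injective rep

theorem enc_injective : Function.Injective (enc (ι := ι)) := fun M N h => Matrix.ext fun i j =>
  rep_injective (Matrix.ext fun a b => by rw [← enc_apply, ← enc_apply, h])

/-- Coordinates. -/
def idx : chevE6.Idx ≃ Fin 78 := finSumFinEquiv

/-- Coordinates over the field with two elements. -/
def idx2 : chevE6.Idx × Fin 2 ≃ Fin 156 := (idx.prodCongr (Equiv.refl _)).trans finProdFinEquiv

/-- The matrix is packed in the given number. -/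
def Is (M : Matrix chevE6.Idx chevE6.Idx F4) (N : ℕ) : Prop :=
  ∀ i j, enc M i j = bitN N (idx2 i).val (idx2 j).val

theorem Is.one : Is 1 oneN := fun i j => by
  rw [map_one, Matrix.one_apply, bitN_oneN _ _ (idx2 i).isLt (idx2 j).isLt]
  exact if_congr (idx2.injective.eq_iff.symm.trans Fin.ext_iff) rfl rfl

theorem Is.mul {M N : Matrix chevE6.Idx chevE6.Idx F4} {R S : ℕ} (h : Is M R) (h' : Is N S) :
    Is (M * N) (mulN R S) := fun i j => by
  rw [map_mul, Matrix.mul_apply, mulN, bitN_mulUpTo R S _ _ (idx2 i).isLt (idx2 j).isLt,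
    Finset.sum_range fun k => bitN R (idx2 i).val k * bitN S k (idx2 j).val]
  exact Fintype.sum_equiv idx2 _ _ fun k => by rw [h, h']

theorem Is.ext {M N : Matrix chevE6.Idx chevE6.Idx F4} {R : ℕ} (h : Is M R) (h' : Is N R) : M = N :=
  enc_injective (Matrix.ext fun i j => (h i j).trans (h' i j).symm)

theorem Is.add {M N : Matrix chevE6.Idx chevE6.Idx F4} {R S : ℕ} (h : Is M R) (h' : Is N S) :
    Is (M + N) (R ^^^ S) := fun i j => by rw [map_add, Matrix.add_apply, h, h', bitN_xor]

theorem Is.zero : Is 0 0 := fun i j => by rw [map_zero, Matrix.zero_apply, bitN_zero]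

theorem Is.pow {M : Matrix chevE6.Idx chevE6.Idx F4} {R : ℕ} (h : Is M R) :
    ∀ k, Is (M ^ k) (powN R k)
  | 0 => by rw [pow_zero]; exact Is.one
  | k + 1 => by rw [pow_succ]; exact (h.pow k).mul h

/-- The two digits of an entry over the field with four elements. -/
def getP (N k l : ℕ) : ℕ := (N >>> (156 * (2 * k) + 2 * l)) % 4

/-- The two digits of the lower row of an entry. -/
def getQ (N k l : ℕ) : ℕ := (N >>> (156 * (2 * k + 1) + 2 * l)) % 4

theorem bitN_get (N row l : ℕ) (b : Fin 2) :
    bitN N row (2 * l + b.val) = if ((N >>> (156 * row + 2 * l)) % 4).testBit b.val then 1 else 0 := by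
  rw [show (4 : ℕ) = 2 ^ 2 from rfl, Nat.testBit_mod_two_pow, Nat.testBit_shiftRight, decide_eq_true b.isLt,
    Bool.true_and, bitN, ← add_assoc]

theorem code_entry : ∀ v : Fin 4, ∀ b : Fin 2,
    rep (F4.fromNat v.val) 0 b = (if v.val.testBit b.val then 1 else 0) ∧
    rep (F4.fromNat v.val) 1 b = (if ([0, 2, 3, 1].getD v.val 0).testBit b.val then 1 else 0) := by decide

theorem Is.of_codes {M : Matrix chevE6.Idx chevE6.Idx F4} {N : ℕ}
    (hlin : ∀ k l : Fin 78, getQ N k l = [0, 2, 3, 1].getD (getP N k l) 0)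
    (h : ∀ k l : Fin 78, M (idx.symm k) (idx.symm l) = F4.fromNat (getP N k l)) : Is M N := by
  rintro ⟨i, a⟩ ⟨j, b⟩
  rw [enc_apply, ← idx.symm_apply_apply i, ← idx.symm_apply_apply j, h]
  obtain ⟨e0, e1⟩ := code_entry ⟨getP N (idx i) (idx j), Nat.mod_lt _ (by norm_num)⟩ b
  have hpos : ∀ (i : chevE6.Idx) (a : Fin 2), (idx2 (i, a)).val = 2 * (idx i).val + a.val := fun i a => by
    simp [idx2, finProdFinEquiv, add_comm]
  rw [Equiv.symm_apply_apply, Equiv.symm_apply_apply, hpos, hpos, bitN_get]
  fin_cases a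
  · exact e0
  · exact e1.trans (by rw [← hlin]; rfl)

theorem rep_row_injective : ∀ x y : F4, (∀ b : Fin 2, rep x 0 b = rep y 0 b) → x = y := by decide

theorem Is.entry {M : Matrix chevE6.Idx chevE6.Idx F4} {N : ℕ} (h : Is M N) (k l : Fin 78) :
    M (idx.symm k) (idx.symm l) = F4.fromNat (getP N k l) := by
  refine rep_row_injective _ _ fun b => ?_
  have := h (idx.symm k, 0) (idx.symm l, b)
  rw [enc_apply, show (idx2 (idx.symm k, (0 : Fin 2))).val = 2 * k.val by simp [idx2, finProdFinEquiv],
    show (idx2 (idx.symm l, b)).val = 2 * l.val + b.val by simp [idx2, finProdFinEquiv, add_comm],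
    bitN_get] at this
  rw [this]
  exact ((code_entry ⟨getP N k l, Nat.mod_lt _ (by norm_num)⟩ b).1).symm

end Cfsg.Agent.H55.Fi22E6
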